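import Mathlib
import Groth.Prelude.Def_HTop
import Groth.Agent.Lib.Helper5.NApprox.ChowA
import Groth.Agent.Lib.Helper5.AG.ProjProper
import Groth.Agent.Lib.Helper5.AG.ProjSection

/-!
# ph coverings: compactifying one member of a standard ph covering (helper5)
-/

set_option autoImplicit false

universe u

open CategoryTheory CategoryTheory.Limits AlgebraicGeometry

namespace Groth.Agent.H5.Ph

/-- The closed subscheme of a radical ideal sheaf is reduced. -/
theorem isReduced_subscheme_of_isRadical {X : Scheme.{u}} (I : X.IdealSheafData)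
    (h : ∀ U : X.affineOpens, (I.ideal U).IsRadical) : AlgebraicGeometry.IsReduced I.subscheme := by
  have : ∀ U, AlgebraicGeometry.IsReduced (I.subschemeCover.openCover.X U) := fun U => by
    have := (Ideal.isRadical_iff_quotient_reduced _).mp (h U)
    exact (affine_isReduced_iff (.of (Γ(X, (U : X.affineOpens).1) ⧸ I.ideal U))).mpr this
  exact AlgebraicGeometry.IsReduced.of_openCover (X := I.subscheme) I.subschemeCover.openCover

theorem isReduced_subscheme_vanishingIdeal {X : Scheme.{u}} (Z : TopologicalSpace.Closeds X) :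
    AlgebraicGeometry.IsReduced (Scheme.IdealSheafData.vanishingIdeal Z).subscheme := by
  apply isReduced_subscheme_of_isRadical
  intro U
  rw [Scheme.IdealSheafData.vanishingIdeal_ideal]
  exact PrimeSpectrum.isRadical_vanishingIdeal _

/-- A morphism from a reduced scheme whose image lies in the image of an immersion factors
through it. -/
lemma exists_lift_of_isReduced {P V Z₀ : Scheme.{u}} (g : P ⟶ V) (ι : Z₀ ⟶ V)
    [IsImmersion ι] [AlgebraicGeometry.IsReduced P] (h : Set.range g ⊆ Set.range ι) :
    ∃ g' : P ⟶ Z₀, g' ≫ ι = g := by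
  have hs : Surjective (pullback.fst g ι) := by
    refine ⟨fun x => ?_⟩
    obtain ⟨z, hz⟩ := h ⟨x, rfl⟩
    obtain ⟨w, hw, -⟩ := Scheme.Pullback.exists_preimage_pullback (f := g) (g := ι) x z hz.symm
    exact ⟨w, hw⟩
  haveI : IsImmersion (pullback.fst g ι) :=
    MorphismProperty.pullback_fst (P := @IsImmersion) _ _ inferInstance
  haveI : IsClosedImmersion (pullback.fst g ι) :=
    IsClosedImmersion.of_isPreimmersion _ (by
      rw [hs.surj.range_eq]; exact isClosed_univ)
  have : IsIso (pullback.fst g ι) := isIso_of_isClosedImmersion_of_surjective _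
  refine ⟨inv (pullback.fst g ι) ≫ pullback.snd g ι, ?_⟩
  rw [Category.assoc, ← pullback.condition, IsIso.inv_hom_id_assoc]

/-- Compactification of a proper surjective morphism onto an open of a qcqs scheme: a proper
surjective `P' ⟶ U` which over the open factors (after passing to the reduction) through `W`. -/
theorem exists_compactify {U U₁ W : Scheme.{u}} [CompactSpace U] [QuasiSeparatedSpace U]
    (j : U₁ ⟶ U) [IsOpenImmersion j] [QuasiCompact j] (q : W ⟶ U₁) [IsProper q] [Surjective q] :
    ∃ (P' : Scheme.{u}) (p : P' ⟶ U) (O : Scheme.{u}) (o : O ⟶ P') (r : O ⟶ W),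
      IsProper p ∧ Surjective p ∧ IsOpenImmersion o ∧
        (∀ x : P', p x ∈ Set.range j → x ∈ Set.range o) ∧ r ≫ q ≫ j = o ≫ p := by
  haveI : IsSeparated (q ≫ j) := inferInstance
  haveI : LocallyOfFiniteType (q ≫ j) := inferInstance
  haveI : QuasiCompact (q ≫ j) := inferInstance
  obtain ⟨n, W', π, i, hi, hcomm, hπ, hπs⟩ := NApprox.chow_qcqs (q ≫ j)
  haveI : IsProper (CohB1.ProjSpaceOver.toBase n U) := AG.isProper_toBase n U
  haveI : Surjective (CohB1.ProjSpaceOver.toBase n U) := AG.surjective_toBase n U
  set tb : CohB1.ProjSpaceOver n U ⟶ U := CohB1.ProjSpaceOver.toBase n U with htb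
  -- closedness of range i in tb⁻¹(range j)
  have hcl : closure (Set.range i) ∩ tb ⁻¹' (Set.range j) ⊆ Set.range i := by
    let i'' : W' ⟶ pullback tb j := pullback.lift i (π ≫ q) (by rw [hcomm, Category.assoc])
    have hi1 : i'' ≫ pullback.fst tb j = i := pullback.lift_fst _ _ _
    have hi2 : i'' ≫ pullback.snd tb j = π ≫ q := pullback.lift_snd _ _ _
    haveI : IsProper (i'' ≫ pullback.snd tb j) := by rw [hi2]; infer_instance
    haveI : IsProper i'' := IsProper.of_comp i'' (pullback.snd tb j)
    have hcr : IsClosed (Set.range i'') := i''.isClosedMap.isClosed_range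
    rintro x ⟨hx1, hx2⟩
    rw [← Scheme.Pullback.range_fst] at hx2
    obtain ⟨y, rfl⟩ := hx2
    have hemb := (pullback.fst tb j).isOpenEmbedding
    have himg : (pullback.fst tb j) '' Set.range i'' = Set.range i := by
      rw [← Set.range_comp, ← hi1]
      rfl
    have hy : y ∈ closure (Set.range i'') := by
      rw [hemb.isInducing.closure_eq_preimage_closure_image, himg]
      exact hx1
    rw [hcr.closure_eq] at hy
    obtain ⟨w, rfl⟩ := hy
    exact ⟨w, by rw [← hi1]; rfl⟩
  -- the closed subset
  let C : TopologicalSpace.Closeds (CohB1.ProjSpaceOver n U) :=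
    ⟨closure (Set.range i) ∪ tb ⁻¹' (Set.range j)ᶜ,
      isClosed_closure.union ((j.isOpenEmbedding.isOpen_range.isClosed_compl).preimage
        tb.continuous)⟩
  let I := Scheme.IdealSheafData.vanishingIdeal C
  haveI hred : AlgebraicGeometry.IsReduced I.subscheme := isReduced_subscheme_vanishingIdeal C
  have hrange : Set.range I.subschemeι = (C : Set _) := by
    rw [Scheme.IdealSheafData.range_subschemeι, Scheme.IdealSheafData.coe_support_vanishingIdeal]
  let p : I.subscheme ⟶ U := I.subschemeι ≫ tb
  haveI : IsProper p := inferInstance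
  haveI : Surjective p := by
    refine ⟨fun u => ?_⟩
    by_cases hu : u ∈ Set.range j
    · obtain ⟨v, rfl⟩ := hu
      obtain ⟨w, rfl⟩ := q.surjective v
      obtain ⟨w', rfl⟩ := π.surjective w
      have hmem : i w' ∈ (C : Set _) := Or.inl (subset_closure ⟨w', rfl⟩)
      rw [← hrange] at hmem
      obtain ⟨z, hz⟩ := hmem
      refine ⟨z, ?_⟩
      change tb (I.subschemeι z) = _
      rw [hz]
      change (i ≫ tb) w' = _
      rw [hcomm]
      rfl
    · obtain ⟨x, hx⟩ := tb.surjective u
      have hmem : x ∈ (C : Set _) := Or.inr (by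
        change tb x ∈ (Set.range j)ᶜ
        rw [hx]; exact hu)
      rw [← hrange] at hmem
      obtain ⟨z, hz⟩ := hmem
      refine ⟨z, ?_⟩
      change tb (I.subschemeι z) = _
      rw [hz, hx]
  -- the open part
  let o : pullback p j ⟶ I.subscheme := pullback.fst p j
  haveI : AlgebraicGeometry.IsReduced (pullback p j) := isReduced_of_isOpenImmersion o
  have hrg : Set.range (o ≫ I.subschemeι) ⊆ Set.range i := by
    rintro _ ⟨z, rfl⟩
    apply hcl
    have h1 : I.subschemeι (o z) ∈ (C : Set _) := by rw [← hrange]; exact ⟨_, rfl⟩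
    have h2 : tb (I.subschemeι (o z)) ∈ Set.range j := by
      refine ⟨pullback.snd p j z, ?_⟩
      change (pullback.snd p j ≫ j) z = _
      rw [← pullback.condition]
      rfl
    refine ⟨?_, h2⟩
    rcases h1 with h1 | h1
    · exact h1
    · exact absurd h2 h1
  obtain ⟨r', hr'⟩ := exists_lift_of_isReduced (o ≫ I.subschemeι) i hrg
  refine ⟨I.subscheme, p, pullback p j, o, r' ≫ π, inferInstance, inferInstance, inferInstance,
    ?_, ?_⟩
  · intro x hx
    change x ∈ Set.range (pullback.fst p j)
    rw [Scheme.Pullback.range_fst]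
    exact hx
  · rw [Category.assoc, ← hcomm, reassoc_of% hr']

end Groth.Agent.H5.Ph
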