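import Mathlib
import Groth.Prelude.Def_HTop
import Groth.Agent.Lib.Helper5.Ph.PhA

/-!
# ph coverings: refining composites of standard ph coverings (helper5)
-/

set_option autoImplicit false

universe w u

open CategoryTheory CategoryTheory.Limits AlgebraicGeometry

namespace Groth.Agent.H5.Ph

/-- Finite fibre products of proper surjective morphisms. -/
theorem exists_fibreProduct {U : Scheme.{u}} {ι : Type w} [Finite ι] (P' : ι → Scheme.{u})
    (p' : ∀ j, P' j ⟶ U) (hp : ∀ j, IsProper (p' j)) (hs : ∀ j, Surjective (p' j)) :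
    ∃ (P : Scheme.{u}) (p : P ⟶ U) (pr : ∀ j, P ⟶ P' j),
      IsProper p ∧ Surjective p ∧ ∀ j, pr j ≫ p' j = p := by
  classical
  haveI := Fintype.ofFinite ι
  have key : ∀ s : Finset ι, ∃ (P : Scheme.{u}) (p : P ⟶ U), IsProper p ∧ Surjective p ∧
      ∀ j ∈ s, ∃ pr : P ⟶ P' j, pr ≫ p' j = p := by
    intro s
    induction s using Finset.induction_on with
    | empty => exact ⟨U, 𝟙 U, inferInstance, inferInstance, by simp⟩
    | insert a s ha ih =>
      obtain ⟨P, p, hpp, hps, hpr⟩ := ih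
      haveI := hp a
      haveI := hs a
      refine ⟨pullback p (p' a), pullback.fst p (p' a) ≫ p, inferInstance, inferInstance, ?_⟩
      intro j hj
      rcases Finset.mem_insert.1 hj with rfl | hj
      · exact ⟨pullback.snd p (p' j), pullback.condition.symm⟩
      · obtain ⟨pr, hpr'⟩ := hpr j hj
        exact ⟨pullback.fst p (p' a) ≫ pr, by rw [Category.assoc, hpr']⟩
  obtain ⟨P, p, hpp, hps, hpr⟩ := key Finset.univ
  choose pr hpr' using fun j => hpr j (Finset.mem_univ j)
  exact ⟨P, p, pr, hpp, hps, hpr'⟩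

/-- Stacks 0DBJ (2): a composite of standard ph coverings is refined by a standard ph covering. -/
theorem refine_bind {T : Scheme.{u}} (E : PreZeroHypercover.{w} T) (hE : HTop.IsStandardPh E)
    (F : ∀ j, PreZeroHypercover.{w} (E.X j)) (hF : ∀ j, HTop.IsStandardPh (F j)) :
    ∃ F' : PreZeroHypercover.{0} T, HTop.IsStandardPh F' ∧ Nonempty (F'.Hom (E.bind F)) := by
  haveI := hE.isAffine
  haveI := hE.finite_index
  obtain ⟨U, f, ι, hfp, hfs, hι, hιf, hcov⟩ := hE.exists_proper
  haveI : CompactSpace U := QuasiCompact.compactSpace_of_compactSpace f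
  haveI : QuasiSeparatedSpace U := quasiSeparatedSpace_of_quasiSeparated f
  have hqc : ∀ j, QuasiCompact (ι j) := fun j => by
    haveI := hE.isAffine_obj j
    haveI : QuasiCompact (ι j ≫ f) := by rw [hιf]; infer_instance
    exact QuasiCompact.of_comp (ι j) f
  choose W q κ hqp hqs hκ hκq hκcov using fun j => (hF j).exists_proper
  have hcomp : ∀ j, ∃ (P' : Scheme.{u}) (p : P' ⟶ U) (O : Scheme.{u}) (o : O ⟶ P') (r : O ⟶ W j),
      IsProper p ∧ Surjective p ∧ IsOpenImmersion o ∧
        (∀ x : P', p x ∈ Set.range (ι j) → x ∈ Set.range o) ∧ r ≫ q j ≫ ι j = o ≫ p := fun j => by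
    haveI := hι j
    haveI := hqc j
    haveI := hqp j
    haveI := hqs j
    exact exists_compactify (ι j) (q j)
  choose P' p' O o r hp'p hp's ho hoc hr using hcomp
  obtain ⟨P, p, pr, hpp, hps, hpr⟩ := exists_fibreProduct P' p' hp'p hp's
  haveI : IsProper (p ≫ f) := inferInstance
  haveI : Surjective (p ≫ f) := inferInstance
  haveI : CompactSpace P := QuasiCompact.compactSpace_of_compactSpace (p ≫ f)
  have hloc : ∀ x : P, ∃ (A : Scheme.{u}) (a : A ⟶ P) (ji : (E.bind F).I₀)
      (h : A ⟶ (E.bind F).X ji), IsAffine A ∧ IsOpenImmersion a ∧ x ∈ Set.range a ∧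
        h ≫ (E.bind F).f ji = a ≫ p ≫ f := by
    intro x
    obtain ⟨j, hj⟩ := hcov (p x)
    have h1 : pr j x ∈ Set.range (o j) := by
      apply hoc j
      have : p' j (pr j x) = p x := by
        change (pr j ≫ p' j) x = _
        rw [hpr]
      rw [this]
      exact hj
    obtain ⟨y, hy⟩ := h1
    obtain ⟨i, hi⟩ := hκcov j (r j y)
    obtain ⟨v, hv⟩ := hi
    obtain ⟨m, hm1, hm2⟩ := Scheme.Pullback.exists_preimage_pullback (f := pr j) (g := o j) x y
      hy.symm
    haveI := ho j
    haveI := hκ j i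
    have hv' : (pullback.snd (pr j) (o j) ≫ r j) m = κ j i v := by
      change r j (pullback.snd (pr j) (o j) m) = _
      rw [hm2]
      exact hv.symm
    obtain ⟨z, hz1, hz2⟩ := Scheme.Pullback.exists_preimage_pullback
      (f := pullback.snd (pr j) (o j) ≫ r j) (g := κ j i) m v hv'
    let B := pullback (pullback.snd (pr j) (o j) ≫ r j) (κ j i)
    obtain ⟨b, hb⟩ := B.affineCover.covers z
    refine ⟨B.affineCover.X (B.affineCover.idx z),
      B.affineCover.f _ ≫ pullback.fst _ _ ≫ pullback.fst (pr j) (o j), ⟨j, i⟩,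
      B.affineCover.f _ ≫ pullback.snd _ _, inferInstance, inferInstance, ?_, ?_⟩
    · refine ⟨b, ?_⟩
      change pullback.fst (pr j) (o j) (pullback.fst (pullback.snd (pr j) (o j) ≫ r j) (κ j i)
        (B.affineCover.f _ b)) = x
      rw [hb, hz1, hm1]
    · change (B.affineCover.f _ ≫ pullback.snd _ _) ≫ (F j).f i ≫ E.f j = _
      rw [← hκq j i, ← hιf j]
      simp only [Category.assoc]
      rw [← pullback.condition_assoc]
      simp only [Category.assoc]
      rw [reassoc_of% (hr j), ← pullback.condition_assoc, reassoc_of% (hpr j)]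
  choose A a ji h hA ha hxa hh using hloc
  obtain ⟨t, ht⟩ := isCompact_univ.elim_finite_subcover (fun x => Set.range (a x))
    (fun x => (ha x).base_open.isOpen_range) (fun x _ => Set.mem_iUnion.2 ⟨x, hxa x⟩)
  let e : Fin t.card ≃ t := t.equivFin.symm
  refine ⟨⟨Fin t.card, fun k => A (e k), fun k => a (e k) ≫ p ≫ f⟩,
    ⟨hE.isAffine, inferInstance, fun k => hA _, ⟨P, p ≫ f, fun k => a (e k), inferInstance,
      inferInstance, fun k => ha _, fun k => rfl, ?_⟩⟩,
    ⟨⟨fun k => ji (e k), fun k => h (e k), fun k => hh _⟩⟩⟩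
  intro x
  obtain ⟨x', hx'⟩ := Set.mem_iUnion.1 (ht (Set.mem_univ x))
  obtain ⟨hx't, hx'2⟩ := Set.mem_iUnion.1 hx'
  refine ⟨e.symm ⟨x', hx't⟩, ?_⟩
  change x ∈ Set.range (a (e (e.symm ⟨x', hx't⟩)))
  rw [Equiv.apply_symm_apply]
  exact hx'2

end Groth.Agent.H5.Ph
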