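import Mathlib
import Groth.Prelude.Def_HTop
import Groth.Agent.Lib.Helper5.Ph.PhB
import Groth.Agent.S7478

/-!
# ph coverings: base change and composition (helper5)
-/

set_option autoImplicit false

universe v w u

open CategoryTheory CategoryTheory.Limits AlgebraicGeometry TopologicalSpace

namespace Groth.Agent.H5.Ph

/-- Stacks 0DBJ (1): an open covering of an affine scheme is refined by a standard ph covering. -/
theorem refine_openCover {T : Scheme.{u}} [IsAffine T] (𝒰 : Scheme.OpenCover.{v} T) :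
    ∃ F : PreZeroHypercover.{0} T, HTop.IsStandardPh F ∧
      Nonempty (F.Hom 𝒰.toPreZeroHypercover) := by
  have hloc : ∀ x : T, ∃ A : T.Opens, IsAffineOpen A ∧ x ∈ A ∧
      A ≤ (𝒰.f (𝒰.idx x)).opensRange := by
    intro x
    obtain ⟨A, hA, hxA, hAU⟩ := Opens.isBasis_iff_nbhd.1 T.isBasis_affineOpens
      (U := (𝒰.f (𝒰.idx x)).opensRange) (x := x) (𝒰.covers x)
    exact ⟨A, hA, hxA, hAU⟩
  choose A hA hxA hAU using hloc
  obtain ⟨t, ht⟩ := isCompact_univ.elim_finite_subcover (fun x => (A x : Set T))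
    (fun x => (A x).2) (fun x _ => Set.mem_iUnion.2 ⟨x, hxA x⟩)
  let e : Fin t.card ≃ t := t.equivFin.symm
  refine ⟨⟨Fin t.card, fun k => (A (e k) : Scheme.{u}), fun k => (A (e k)).ι⟩,
    ⟨inferInstance, inferInstance, fun k => hA _, ⟨T, 𝟙 T, fun k => (A (e k)).ι, inferInstance,
      inferInstance, fun k => inferInstance, fun k => Category.comp_id _, ?_⟩⟩,
    ⟨⟨fun k => 𝒰.idx (e k), fun k => IsOpenImmersion.lift (𝒰.f _) (A (e k)).ι (by
      rw [Scheme.Opens.range_ι]; exact hAU _), fun k => IsOpenImmersion.lift_fac _ _ _⟩⟩⟩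
  intro x
  obtain ⟨x', hx'⟩ := Set.mem_iUnion.1 (ht (Set.mem_univ x))
  obtain ⟨hx't, hx'2⟩ := Set.mem_iUnion.1 hx'
  refine ⟨e.symm ⟨x', hx't⟩, ?_⟩
  change x ∈ Set.range (A (e (e.symm ⟨x', hx't⟩))).ι
  rw [Equiv.apply_symm_apply, Scheme.Opens.range_ι]
  exact hx'2

/-- The key base change lemma: a ph covering pulled back to an affine scheme is refined by a
standard ph covering. -/
theorem exists_standardPh_refinesOver {T T' : Scheme.{u}} [IsAffine T'] (g : T' ⟶ T)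
    (E : PreZeroHypercover.{w} T) (hE : HTop.IsPhCover E) :
    ∃ F : PreZeroHypercover.{0} T', HTop.IsStandardPh F ∧ HTop.RefinesOver g F E := by
  have hloc : ∀ x : T', ∃ (Uo : T.affineOpens) (V : T'.Opens), IsAffineOpen V ∧ x ∈ V ∧
      V ≤ g ⁻¹ᵁ Uo.1 := by
    intro x
    obtain ⟨Uo, hUo, hxU, -⟩ := Opens.isBasis_iff_nbhd.1 T.isBasis_affineOpens
      (U := ⊤) (x := g x) trivial
    obtain ⟨V, hV, hxV, hVU⟩ := Opens.isBasis_iff_nbhd.1 T'.isBasis_affineOpens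
      (U := g ⁻¹ᵁ Uo) (x := x) hxU
    exact ⟨⟨Uo, hUo⟩, V, hV, hxV, hVU⟩
  choose Uo V hV hxV hVU using hloc
  obtain ⟨t, ht⟩ := isCompact_univ.elim_finite_subcover (fun x => (V x : Set T'))
    (fun x => (V x).2) (fun x _ => Set.mem_iUnion.2 ⟨x, hxV x⟩)
  let e : Fin t.card ≃ t := t.equivFin.symm
  let E₀ : PreZeroHypercover.{0} T' :=
    ⟨Fin t.card, fun k => (V (e k) : Scheme.{u}), fun k => (V (e k)).ι⟩
  have hE₀ : HTop.IsStandardPh E₀ := by
    refine ⟨inferInstance, inferInstanceAs (Finite (Fin t.card)), fun k => hV _,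
      ⟨T', 𝟙 T', fun k => (V (e k)).ι, inferInstance, inferInstance, fun k => inferInstance,
        fun k => Category.comp_id _, ?_⟩⟩
    intro x
    obtain ⟨x', hx'⟩ := Set.mem_iUnion.1 (ht (Set.mem_univ x))
    obtain ⟨hx't, hx'2⟩ := Set.mem_iUnion.1 hx'
    refine ⟨e.symm ⟨x', hx't⟩, ?_⟩
    change x ∈ Set.range (V (e (e.symm ⟨x', hx't⟩))).ι
    rw [Equiv.apply_symm_apply, Scheme.Opens.range_ι]
    exact hx'2
  choose G hG hGref using fun k : Fin t.card => hE.2 (Uo (e k))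
  have hrange : ∀ k : Fin t.card,
      Set.range ((V (e k)).ι ≫ g) ⊆ Set.range (Uo (e k)).1.ι := by
    intro k
    rw [Scheme.Opens.range_ι]
    rintro _ ⟨y, rfl⟩
    exact hVU (e k) y.2
  let gk : ∀ k : Fin t.card, E₀.X k ⟶ ((Uo (e k)).1 : Scheme.{u}) := fun k =>
    IsOpenImmersion.lift (Uo (e k)).1.ι ((V (e k)).ι ≫ g) (hrange k)
  have hgk : ∀ k, gk k ≫ (Uo (e k)).1.ι = (V (e k)).ι ≫ g := fun k =>
    IsOpenImmersion.lift_fac _ _ _
  let F₁ : ∀ k, PreZeroHypercover.{0} (E₀.X k) := fun k => (G k).pullback₁ (gk k)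
  have hF₁ : ∀ k, HTop.IsStandardPh (F₁ k) := fun k => by
    haveI : IsAffine (E₀.X k) := hV _
    exact Groth.Agent.S7478.result (gk k) (G k) (hG k)
  obtain ⟨F', hF', ⟨φ⟩⟩ := refine_bind E₀ hE₀ F₁ hF₁
  refine ⟨F', hF', ?_⟩
  intro l
  have key : ∀ (k : Fin t.card) (a : (G k).I₀) (h₀ : F'.X l ⟶ pullback (gk k) ((G k).f a)),
      h₀ ≫ pullback.fst (gk k) ((G k).f a) ≫ (V (e k)).ι = F'.f l →
      ∃ (i : E.I₀) (h' : F'.X l ⟶ E.X i), h' ≫ E.f i = F'.f l ≫ g := by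
    intro k a h₀ hw
    obtain ⟨i, h, hh⟩ := hGref k a
    refine ⟨i, h₀ ≫ pullback.snd (gk k) ((G k).f a) ≫ h, ?_⟩
    rw [← hw]
    simp only [Category.assoc]
    rw [hh, ← pullback.condition_assoc, hgk]
  exact key (φ.s₀ l).1 (φ.s₀ l).2 (φ.h₀ l) (φ.w₀ l)

/-- ph coverings are stable under base change (Stacks 0DBG/0DBH (2)). -/
theorem isPhCover_pullback₁ {T T' : Scheme.{u}} (g : T' ⟶ T) (E : PreZeroHypercover.{w} T)
    (hE : HTop.IsPhCover E) : HTop.IsPhCover (E.pullback₁ g) := by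
  refine ⟨fun i => ?_, fun U' => ?_⟩
  · haveI := hE.1 i
    exact MorphismProperty.pullback_fst (P := @LocallyOfFiniteType) _ _ inferInstance
  · haveI : IsAffine (U'.1 : Scheme.{u}) := U'.2
    obtain ⟨F, hF, hFr⟩ := exists_standardPh_refinesOver (U'.1.ι ≫ g) E hE
    refine ⟨F, hF, fun l => ?_⟩
    obtain ⟨i, h, hh⟩ := hFr l
    exact ⟨i, pullback.lift (F.f l ≫ U'.1.ι) h (by rw [hh, Category.assoc]),
      pullback.lift_fst _ _ _⟩

/-- ph coverings are stable under composition (Stacks 0DBH (3)). -/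
theorem isPhCover_bind {T : Scheme.{u}} (E : PreZeroHypercover.{w} T) (hE : HTop.IsPhCover E)
    (F : ∀ i, PreZeroHypercover.{w} (E.X i)) (hF : ∀ i, HTop.IsPhCover (F i)) :
    HTop.IsPhCover (E.bind F) := by
  refine ⟨fun ij => ?_, fun U => ?_⟩
  · haveI := hE.1 ij.1
    haveI := (hF ij.1).1 ij.2
    change LocallyOfFiniteType ((F ij.1).f ij.2 ≫ E.f ij.1)
    infer_instance
  · obtain ⟨G, hG, hGr⟩ := hE.2 U
    choose i hk hhk using hGr
    have hex : ∀ k, ∃ H : PreZeroHypercover.{0} (G.X k), HTop.IsStandardPh H ∧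
        HTop.RefinesOver (hk k) H (F (i k)) := fun k => by
      haveI := hG.isAffine_obj k
      exact exists_standardPh_refinesOver (hk k) (F (i k)) (hF (i k))
    choose H hH hHr using hex
    obtain ⟨F', hF', ⟨φ⟩⟩ := refine_bind G hG H hH
    refine ⟨F', hF', fun l => ?_⟩
    have key : ∀ (k : G.I₀) (a : (H k).I₀) (h₀ : F'.X l ⟶ (H k).X a),
        h₀ ≫ (H k).f a ≫ G.f k = F'.f l →
        ∃ (ib : (E.bind F).I₀) (h' : F'.X l ⟶ (E.bind F).X ib),
          h' ≫ (E.bind F).f ib = F'.f l ≫ U.1.ι := by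
      intro k a h₀ hw
      obtain ⟨b, h, hh⟩ := hHr k a
      refine ⟨⟨i k, b⟩, h₀ ≫ h, ?_⟩
      change (h₀ ≫ h) ≫ (F (i k)).f b ≫ E.f (i k) = _
      rw [← hw]
      simp only [Category.assoc]
      rw [reassoc_of% hh, hhk]
    exact key (φ.s₀ l).1 (φ.s₀ l).2 (φ.h₀ l) (φ.w₀ l)

end Groth.Agent.H5.Ph
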