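import Mathlib
import Groth.Prelude.Def_W4stk3sptopologiesPh
import Groth.Agent.Lib.Helper5.Ph.PhC
import Groth.Agent.Lib.Helper5.AlgSp.LocPCalc
import Groth.Agent.Lib.Helper3.AlgSpCov.LocPBaseInst

/-!
# ph coverings of algebraic spaces: composition (helper5)
-/

set_option autoImplicit false
set_option linter.overlappingInstances false

universe u

open CategoryTheory CategoryTheory.Limits AlgebraicGeometry

namespace Groth.Agent.H5.Ph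

open _root_.AlgSp Groth.Agent.H5.AlgSp Groth.Agent.H5.EtSrc Groth.Agent.H3.AlgSpCov

variable {S : Scheme.{u}}

theorem isPhCover_comp_space {X : Sp S} (hX : IsAlgSpace X) {ι : Type u} (Xi : ι → Sp S)
    (hXi : ∀ i, IsAlgSpace (Xi i)) (g : ∀ i, Xi i ⟶ X) (κ : ι → Type u)
    (Xij : ∀ i, κ i → Sp S) (hXij : ∀ i j, IsAlgSpace (Xij i j)) (gij : ∀ i j, Xij i j ⟶ Xi i)
    (h : IsPhCover Xi g) (hij : ∀ i, IsPhCover (Xij i) (gij i)) :
    IsPhCover (fun r : Σ i, κ i => Xij r.1 r.2) (fun r => gij r.1 r.2 ≫ g r.1) := by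
  refine ⟨fun r => locP_comp etale_le_lft (hXij r.1 r.2) (hXi r.1) hX ((hij r.1).1 r.2) (h.1 r.1),
    fun Z hZ k => ?_⟩
  obtain ⟨F, hF, hl⟩ := h.2 Z hZ k
  choose i l hl using hl
  have hex : ∀ j : F.I₀, ∃ H : PreZeroHypercover.{0} (F.X j), HTop.IsStandardPh H ∧
      ∀ a : H.I₀, ∃ (b : κ (i j))
        (l' : (yon S).obj (Over.mk (H.f a ≫ F.f j ≫ Z.hom)) ⟶ Xij (i j) b),
        l' ≫ gij (i j) b = (yon S).map (Over.homMk (H.f a) rfl :
          Over.mk (H.f a ≫ F.f j ≫ Z.hom) ⟶ Over.mk (F.f j ≫ Z.hom)) ≫ l j := fun j =>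
    (hij (i j)).2 (Over.mk (F.f j ≫ Z.hom)) (hF.isAffine_obj j) (l j)
  choose H hH hHl using hex
  obtain ⟨F', hF', ⟨φ⟩⟩ := refine_bind F hF H hH
  refine ⟨F', hF', fun t => ?_⟩
  have key : ∀ (j : F.I₀) (a : (H j).I₀) (h₀ : F'.X t ⟶ (H j).X a),
      h₀ ≫ (H j).f a ≫ F.f j = F'.f t →
      ∃ (r : Σ i, κ i) (l'' : (yon S).obj (Over.mk (F'.f t ≫ Z.hom)) ⟶ Xij r.1 r.2),
        l'' ≫ gij r.1 r.2 ≫ g r.1 = (yon S).map (Over.homMk (F'.f t) rfl :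
          Over.mk (F'.f t ≫ Z.hom) ⟶ Z) ≫ k := by
    intro j a h₀ hw
    obtain ⟨b, l', hl'⟩ := hHl j a
    let m : Over.mk (F'.f t ≫ Z.hom) ⟶ Over.mk ((H j).f a ≫ F.f j ≫ Z.hom) :=
      Over.homMk h₀ (by
        change h₀ ≫ (H j).f a ≫ F.f j ≫ Z.hom = F'.f t ≫ Z.hom
        rw [← hw]; simp only [Category.assoc])
    refine ⟨⟨i j, b⟩, (yon S).map m ≫ l', ?_⟩
    change ((yon S).map m ≫ l') ≫ gij (i j) b ≫ g (i j) = _
    rw [Category.assoc, reassoc_of% hl', hl, ← Functor.map_comp_assoc, ← Functor.map_comp_assoc]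
    congr 2
    apply Over.OverMorphism.ext
    change (h₀ ≫ (H j).f a) ≫ F.f j = F'.f t
    rw [Category.assoc, hw]
  exact key (φ.s₀ t).1 (φ.s₀ t).2 (φ.h₀ t) (φ.w₀ t)

end Groth.Agent.H5.Ph
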