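import Mathlib
import Groth.Prelude.Def_HTop
import Groth.Agent.Lib.Helper5.Ph.PhC

/-!
# ph coverings: finite jointly surjective families of proper morphisms (helper5)
-/

set_option autoImplicit false

universe v w u

open CategoryTheory CategoryTheory.Limits AlgebraicGeometry TopologicalSpace

namespace Groth.Agent.H5.Ph

/-- The coproduct of two proper morphisms is proper. -/
theorem isProper_coprodDesc {X Y T : Scheme.{u}} (f : X ⟶ T) (g : Y ⟶ T) [IsProper f]
    [IsProper g] : IsProper (coprod.desc f g) := by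
  have h1 : IsProper (coprod.map f g) := by
    rw [IsZariskiLocalAtTarget.iff_of_openCover (P := @IsProper) (coprodOpenCover.{u, 0} T T)]
    rintro (⟨⟩ | ⟨⟩)
    · have sq := (isPullback_inl_inl_coprodMap f g).flip
      change IsProper (pullback.snd (coprod.map f g) coprod.inl)
      have h := sq.isoPullback_hom_snd
      rw [← MorphismProperty.cancel_left_of_respectsIso @IsProper sq.isoPullback.hom, h]
      infer_instance
    · have sq := (isPullback_inr_inr_coprodMap f g).flip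
      change IsProper (pullback.snd (coprod.map f g) coprod.inr)
      have h := sq.isoPullback_hom_snd
      rw [← MorphismProperty.cancel_left_of_respectsIso @IsProper sq.isoPullback.hom, h]
      infer_instance
  have h2 : coprod.desc f g = coprod.map f g ≫ coprod.desc (𝟙 T) (𝟙 T) := by
    rw [coprod.map_desc, Category.comp_id, Category.comp_id]
  rw [h2]
  infer_instance

/-- A proper surjective morphism onto an affine scheme whose source is covered by opens mapping
compatibly to members of a family gives a standard ph covering refining the family. -/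
theorem exists_standardPh_of_local {T T' P : Scheme.{u}} [IsAffine T'] (g : T' ⟶ T)
    (p : P ⟶ T') [IsProper p] [Surjective p] (E : PreZeroHypercover.{w} T)
    (hloc : ∀ x : P, ∃ (A : Scheme.{u}) (a : A ⟶ P) (k : E.I₀) (h : A ⟶ E.X k),
      IsOpenImmersion a ∧ x ∈ Set.range a ∧ h ≫ E.f k = a ≫ p ≫ g) :
    ∃ F' : PreZeroHypercover.{0} T', HTop.IsStandardPh F' ∧ HTop.RefinesOver g F' E := by
  haveI : CompactSpace P := QuasiCompact.compactSpace_of_compactSpace p
  have hloc' : ∀ x : P, ∃ (A : Scheme.{u}) (a : A ⟶ P) (k : E.I₀) (h : A ⟶ E.X k),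
      IsAffine A ∧ IsOpenImmersion a ∧ x ∈ Set.range a ∧ h ≫ E.f k = a ≫ p ≫ g := by
    intro x
    obtain ⟨A, a, k, h, ha, ⟨y, rfl⟩, hh⟩ := hloc x
    obtain ⟨b, hb⟩ := A.affineCover.covers y
    refine ⟨A.affineCover.X (A.affineCover.idx y), A.affineCover.f _ ≫ a, k,
      A.affineCover.f _ ≫ h, inferInstance, inferInstance, ⟨b, ?_⟩, ?_⟩
    · change a (A.affineCover.f _ b) = a y
      rw [hb]
    · rw [Category.assoc, hh, Category.assoc]
  choose A a k h hA ha hxa hh using hloc'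
  obtain ⟨t, ht⟩ := isCompact_univ.elim_finite_subcover (fun x => Set.range (a x))
    (fun x => (ha x).base_open.isOpen_range) (fun x _ => Set.mem_iUnion.2 ⟨x, hxa x⟩)
  let e : Fin t.card ≃ t := t.equivFin.symm
  refine ⟨⟨Fin t.card, fun l => A (e l), fun l => a (e l) ≫ p⟩,
    ⟨inferInstance, inferInstance, fun l => hA _, ⟨P, p, fun l => a (e l), inferInstance,
      inferInstance, fun l => ha _, fun l => rfl, ?_⟩⟩,
    fun l => ⟨k (e l), h (e l), by
      change h (e l) ≫ E.f (k (e l)) = (a (e l) ≫ p) ≫ g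
      rw [hh, Category.assoc]⟩⟩
  intro x
  obtain ⟨x', hx'⟩ := Set.mem_iUnion.1 (ht (Set.mem_univ x))
  obtain ⟨hx't, hx'2⟩ := Set.mem_iUnion.1 hx'
  refine ⟨e.symm ⟨x', hx't⟩, ?_⟩
  change x ∈ Set.range (a (e (e.symm ⟨x', hx't⟩)))
  rw [Equiv.apply_symm_apply]
  exact hx'2

/-- A family through which two jointly surjective proper morphisms factor is a ph covering. -/
theorem isPhCover_of_two_proper {T : Scheme.{u}} (E : PreZeroHypercover.{w} T)
    (hlft : ∀ k, LocallyOfFiniteType (E.f k)) {Y₁ Y₂ : Scheme.{u}} (f₁ : Y₁ ⟶ T) (f₂ : Y₂ ⟶ T)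
    [IsProper f₁] [IsProper f₂] (hsurj : ∀ x : T, x ∈ Set.range f₁ ∨ x ∈ Set.range f₂)
    (k₁ k₂ : E.I₀) (h₁ : Y₁ ⟶ E.X k₁) (h₂ : Y₂ ⟶ E.X k₂) (hh₁ : h₁ ≫ E.f k₁ = f₁)
    (hh₂ : h₂ ≫ E.f k₂ = f₂) : HTop.IsPhCover E := by
  refine ⟨hlft, fun U => ?_⟩
  haveI : IsAffine (U.1 : Scheme.{u}) := U.2
  haveI := isProper_coprodDesc (pullback.snd f₁ U.1.ι) (pullback.snd f₂ U.1.ι)
  haveI : Surjective (coprod.desc (pullback.snd f₁ U.1.ι) (pullback.snd f₂ U.1.ι)) := by
    refine ⟨fun y => ?_⟩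
    rcases hsurj (U.1.ι y) with ⟨z, hz⟩ | ⟨z, hz⟩
    · obtain ⟨w, -, hw⟩ := Scheme.Pullback.exists_preimage_pullback (f := f₁) (g := U.1.ι) z y hz
      refine ⟨(coprod.inl : pullback f₁ U.1.ι ⟶ _) w, ?_⟩
      rw [← Scheme.Hom.comp_apply, coprod.inl_desc]
      exact hw
    · obtain ⟨w, -, hw⟩ := Scheme.Pullback.exists_preimage_pullback (f := f₂) (g := U.1.ι) z y hz
      refine ⟨(coprod.inr : pullback f₂ U.1.ι ⟶ _) w, ?_⟩
      rw [← Scheme.Hom.comp_apply, coprod.inr_desc]
      exact hw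
  apply exists_standardPh_of_local U.1.ι
    (coprod.desc (pullback.snd f₁ U.1.ι) (pullback.snd f₂ U.1.ι)) E
  intro x
  obtain ⟨x | x, rfl⟩ := (coprodMk (pullback f₁ U.1.ι) (pullback f₂ U.1.ι)).surjective x
  · refine ⟨pullback f₁ U.1.ι, coprod.inl, k₁, pullback.fst f₁ U.1.ι ≫ h₁, inferInstance,
      ⟨x, (coprodMk_inl _ _ x).symm⟩, ?_⟩
    rw [Category.assoc, hh₁, coprod.inl_desc_assoc, pullback.condition]
  · refine ⟨pullback f₂ U.1.ι, coprod.inr, k₂, pullback.fst f₂ U.1.ι ≫ h₂, inferInstance,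
      ⟨x, (coprodMk_inr _ _ x).symm⟩, ?_⟩
    rw [Category.assoc, hh₂, coprod.inr_desc_assoc, pullback.condition]

end Groth.Agent.H5.Ph
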