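import Mathlib
import Groth.Prelude.Def_HTop
import Groth.Prelude.Def_BlowUp2
import Groth.Agent.Lib.Helper5.Ph.PhE
import Groth.Agent.Lib.Helper1.HCov2
import Groth.Agent.Lib.Helper9.Misc.BLA12
import Groth.Agent.Lib.Lead.QC.BlowUpBasic
import Groth.Agent.Lib.Helper5.NApprox.FgIdA

/-!
# ph sheaves and blow up squares (helper5)
-/

set_option autoImplicit false

universe v w u

open CategoryTheory CategoryTheory.Limits AlgebraicGeometry TopologicalSpace Opposite

namespace Groth.Agent.H5.Ph

section TwoMember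

variable {S : Scheme.{u}}

/-- the two-member family of objects -/
def twoY (Y₁ Y₂ : Over S) : Bool → Over S := fun k => cond k Y₁ Y₂

/-- the two-member family of morphisms -/
def twoF {T Y₁ Y₂ : Over S} (f₁ : Y₁ ⟶ T) (f₂ : Y₂ ⟶ T) : ∀ k, twoY Y₁ Y₂ k ⟶ T
  | true => f₁
  | false => f₂

variable (F : (Over S)ᵒᵖ ⥤ Type v) (hF : Presieve.IsSheaf (HTop.Jph S) F)
  {T Y₁ Y₂ : Over S} (f₁ : Y₁ ⟶ T) (f₂ : Y₂ ⟶ T) [IsProper f₁.left] [IsProper f₂.left]
  (hsurj : ∀ x : T.left, x ∈ Set.range f₁.left ∨ x ∈ Set.range f₂.left)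

include hF hsurj in
theorem isSheafFor_two :
    Presieve.IsSheafFor F (Presieve.ofArrows (twoY Y₁ Y₂) (twoF f₁ f₂)) := by
  rw [Presieve.isSheafFor_iff_generate]
  apply hF
  refine Groth.Agent.Lib.Helper1.HCov.generate_ofArrows_mem_over HTop.phTopology
    (twoY Y₁ Y₂) (twoF f₁ f₂) ?_
  apply Precoverage.generate_mem_toGrothendieck
  let E₀ : PreZeroHypercover.{0} T.left :=
    ⟨Bool, fun k => (twoY Y₁ Y₂ k).left, fun k => (twoF f₁ f₂ k).left⟩
  change E₀.presieve₀ ∈ HTop.phPrecoverage T.left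
  rw [HTop.presieve₀_mem_phPrecoverage_iff]
  refine isPhCover_of_two_proper E₀ ?_ f₁.left f₂.left hsurj true false (𝟙 _) (𝟙 _)
    (Category.id_comp _) (Category.id_comp _)
  rintro (_ | _)
  · change LocallyOfFiniteType f₂.left
    infer_instance
  · change LocallyOfFiniteType f₁.left
    infer_instance

include hF hsurj in
theorem two_sep (s s' : F.obj (op T)) (h1 : F.map f₁.op s = F.map f₁.op s')
    (h2 : F.map f₂.op s = F.map f₂.op s') : s = s' := by
  have hsh := isSheafFor_two F hF f₁ f₂ hsurj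
  refine hsh.isSeparatedFor.ext ?_
  rintro Y g ⟨k⟩
  cases k
  · exact h2
  · exact h1

include hF hsurj in
theorem two_glue (x₁ : F.obj (op Y₁)) (x₂ : F.obj (op Y₂))
    (c11 : ∀ (W : Over S) (g g' : W ⟶ Y₁), g ≫ f₁ = g' ≫ f₁ → F.map g.op x₁ = F.map g'.op x₁)
    (c12 : ∀ (W : Over S) (g : W ⟶ Y₁) (g' : W ⟶ Y₂), g ≫ f₁ = g' ≫ f₂ →
      F.map g.op x₁ = F.map g'.op x₂)
    (c22 : ∀ (W : Over S) (g g' : W ⟶ Y₂), g ≫ f₂ = g' ≫ f₂ → F.map g.op x₂ = F.map g'.op x₂) :
    ∃ s : F.obj (op T), F.map f₁.op s = x₁ ∧ F.map f₂.op s = x₂ := by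
  have hsh := isSheafFor_two F hF f₁ f₂ hsurj
  rw [Presieve.isSheafFor_arrows_iff] at hsh
  let x : ∀ k, F.obj (op (twoY Y₁ Y₂ k)) := fun k =>
    match k with
    | true => x₁
    | false => x₂
  obtain ⟨s, hs, -⟩ := hsh x (by
    rintro (_ | _) (_ | _) W g g' hgg'
    · exact c22 W g g' hgg'
    · exact (c12 W g' g hgg'.symm).symm
    · exact c12 W g g' hgg'
    · exact c11 W g g' hgg')
  exact ⟨s, hs true, hs false⟩

end TwoMember

section BlowUp

variable (S : Scheme.{u}) (F : (Over S)ᵒᵖ ⥤ Type v) (hF : Presieve.IsSheaf (HTop.Jph S) F)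

include hF in
theorem blowUpSquare_cartesian {E Z X' X : Over S} (e : E ⟶ X') (π : E ⟶ Z) (b : X' ⟶ X)
    (i : Z ⟶ X) [IsClosedImmersion i.left] [LocallyOfFinitePresentation i.left]
    (hb : BlowUp.IsBlowUp b.left i.left.ker) (hE : IsPullback e.left π.left b.left i.left)
    (t : F.obj (op Z)) (s' : F.obj (op X')) (hts : F.map π.op t = F.map e.op s') :
    ∃! s : F.obj (op X), F.map i.op s = t ∧ F.map b.op s = s' := by
  haveI : IsProper b.left :=
    Groth.Agent.H9.BLA.IsBlowUp.isProper hb (fun U => NApprox.fg_ker_of_lfp i.left U)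
  haveI hiso : IsIso (b.left ∣_ i.left.ker.support.compl) :=
    Groth.Agent.LD.QC.IsBlowUp.isIso_restrict_compl hb
  have hsupp : (i.left.ker.support : Set X.left) = Set.range i.left := by
    rw [Scheme.Hom.support_ker]
    exact i.left.isClosedEmbedding.isClosed_range.closure_eq
  set V : X.left.Opens := i.left.ker.support.compl with hV
  have hmemV : ∀ x : X.left, x ∉ Set.range i.left → x ∈ V := by
    intro x hx
    change x ∉ (i.left.ker.support : Set X.left)
    rw [hsupp]
    exact hx
  -- joint surjectivity of `{b, i}`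
  have hsurj : ∀ x : X.left, x ∈ Set.range b.left ∨ x ∈ Set.range i.left := by
    intro x
    by_cases hx : x ∈ Set.range i.left
    · exact Or.inr hx
    · left
      obtain ⟨y, hy⟩ := (b.left ∣_ V).surjective ⟨x, hmemV x hx⟩
      refine ⟨(b.left ⁻¹ᵁ V).ι y, ?_⟩
      change ((b.left ⁻¹ᵁ V).ι ≫ b.left) y = x
      rw [← morphismRestrict_ι]
      change V.ι ((b.left ∣_ V) y) = x
      rw [hy]
      rfl
  -- compatibility for `(b, i)`
  have c12 : ∀ (W : Over S) (g : W ⟶ X') (g' : W ⟶ Z), g ≫ b = g' ≫ i →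
      F.map g.op s' = F.map g'.op t := by
    intro W g g' hgg'
    have hl : g.left ≫ b.left = g'.left ≫ i.left := congrArg CommaMorphism.left hgg'
    let ℓ : W ⟶ E := Over.homMk (hE.lift g.left g'.left hl) (by
      rw [← Over.w e, ← Category.assoc, hE.lift_fst, Over.w])
    have h1 : ℓ ≫ e = g := Over.OverMorphism.ext (hE.lift_fst _ _ _)
    have h2 : ℓ ≫ π = g' := Over.OverMorphism.ext (hE.lift_snd _ _ _)
    rw [← h1, ← h2, op_comp, op_comp, F.map_comp, F.map_comp]
    simp only [types_comp_apply]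
    rw [hts]
  -- compatibility for `(i, i)`
  have c22 : ∀ (W : Over S) (g g' : W ⟶ Z), g ≫ i = g' ≫ i → F.map g.op t = F.map g'.op t := by
    intro W g g' h
    have : g = g' := by
      apply Over.OverMorphism.ext
      have hl : g.left ≫ i.left = g'.left ≫ i.left := congrArg CommaMorphism.left h
      exact (cancel_mono i.left).1 hl
    rw [this]
  -- compatibility for `(b, b)`
  have c11 : ∀ (W : Over S) (g g' : W ⟶ X'), g ≫ b = g' ≫ b →
      F.map g.op s' = F.map g'.op s' := by
    intro W g g' hgg'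
    have hl : g.left ≫ b.left = g'.left ≫ b.left := congrArg CommaMorphism.left hgg'
    -- the part over the centre
    let pw₀ := pullback.fst (g.left ≫ b.left) i.left
    let pz₀ := pullback.snd (g.left ≫ b.left) i.left
    have hcond : pw₀ ≫ g.left ≫ b.left = pz₀ ≫ i.left := pullback.condition
    let WE : Over S := Over.mk (pw₀ ≫ W.hom)
    let pw : WE ⟶ W := Over.homMk pw₀ rfl
    let pz : WE ⟶ Z := Over.homMk pz₀ (by
      change pz₀ ≫ Z.hom = pw₀ ≫ W.hom
      rw [← Over.w i, ← Category.assoc, ← hcond, Category.assoc, Category.assoc, Over.w b,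
        Over.w g])
    have hE1 : F.map pw.op (F.map g.op s') = F.map pz.op t := by
      have := c12 WE (pw ≫ g) pz (Over.OverMorphism.ext hcond)
      rwa [op_comp, F.map_comp] at this
    have hE2 : F.map pw.op (F.map g'.op s') = F.map pz.op t := by
      have := c12 WE (pw ≫ g') pz (Over.OverMorphism.ext (by
        change pw₀ ≫ g'.left ≫ b.left = pz₀ ≫ i.left
        rw [← hl]; exact hcond))
      rwa [op_comp, F.map_comp] at this
    -- the equalizer part
    let Δ := pullback.diagonal b.left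
    let gg : W.left ⟶ pullback b.left b.left := pullback.lift g.left g'.left hl
    let d₀ := pullback.fst gg Δ
    have hd₀ : d₀ ≫ g.left = d₀ ≫ g'.left := by
      have h1 : d₀ ≫ gg = pullback.snd gg Δ ≫ Δ := pullback.condition
      have h2 := congrArg (· ≫ pullback.fst b.left b.left) h1
      have h3 := congrArg (· ≫ pullback.snd b.left b.left) h1
      simp only [Category.assoc] at h2 h3
      rw [pullback.lift_fst, pullback.diagonal_fst] at h2
      rw [pullback.lift_snd, pullback.diagonal_snd] at h3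
      rw [h2, h3]
    let WD : Over S := Over.mk (d₀ ≫ W.hom)
    let d : WD ⟶ W := Over.homMk d₀ rfl
    have hD : F.map d.op (F.map g.op s') = F.map d.op (F.map g'.op s') := by
      have : d ≫ g = d ≫ g' := Over.OverMorphism.ext hd₀
      rw [← types_comp_apply (F.map g.op) (F.map d.op), ← F.map_comp, ← op_comp, this,
        op_comp, F.map_comp]
      rfl
    haveI : IsProper d.left := by
      change IsProper (pullback.fst gg Δ)
      infer_instance
    haveI : IsProper pw.left := by
      change IsProper (pullback.fst (g.left ≫ b.left) i.left)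
      infer_instance
    -- joint surjectivity
    have hsurjW : ∀ x : W.left, x ∈ Set.range d.left ∨ x ∈ Set.range pw.left := by
      intro x
      by_cases hx : (g.left ≫ b.left) x ∈ Set.range i.left
      · right
        change x ∈ Set.range (pullback.fst (g.left ≫ b.left) i.left)
        rw [Scheme.Pullback.range_fst]
        exact hx
      · left
        change x ∈ Set.range (pullback.fst gg Δ)
        rw [Scheme.Pullback.range_fst]
        let WV : W.left.Opens := (g.left ≫ b.left) ⁻¹ᵁ V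
        have hxWV : x ∈ WV := hmemV _ hx
        have hr : ∀ (m : (WV : Scheme.{u}) ⟶ X'.left), m ≫ b.left = WV.ι ≫ g.left ≫ b.left →
            Set.range m ⊆ Set.range (b.left ⁻¹ᵁ V).ι := by
          intro m hm
          rintro _ ⟨y, rfl⟩
          rw [Scheme.Opens.range_ι]
          change b.left (m y) ∈ V
          have : b.left (m y) = (m ≫ b.left) y := rfl
          rw [this, hm]
          exact y.2
        have hm1 : (WV.ι ≫ g.left) ≫ b.left = WV.ι ≫ g.left ≫ b.left := Category.assoc _ _ _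
        have hm2 : (WV.ι ≫ g'.left) ≫ b.left = WV.ι ≫ g.left ≫ b.left := by
          rw [Category.assoc, hl]
        let m₁ := IsOpenImmersion.lift (b.left ⁻¹ᵁ V).ι (WV.ι ≫ g.left) (hr _ hm1)
        let m₂ := IsOpenImmersion.lift (b.left ⁻¹ᵁ V).ι (WV.ι ≫ g'.left) (hr _ hm2)
        have hm₁ : m₁ ≫ (b.left ⁻¹ᵁ V).ι = WV.ι ≫ g.left := IsOpenImmersion.lift_fac _ _ _
        have hm₂ : m₂ ≫ (b.left ⁻¹ᵁ V).ι = WV.ι ≫ g'.left := IsOpenImmersion.lift_fac _ _ _
        have heq : m₁ = m₂ := by
          rw [← cancel_mono (b.left ∣_ V), ← cancel_mono V.ι, Category.assoc, Category.assoc,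
            morphismRestrict_ι, reassoc_of% hm₁, reassoc_of% hm₂, hl]
        have hmm : WV.ι ≫ g.left = WV.ι ≫ g'.left := by rw [← hm₁, ← hm₂, heq]
        have hgg : WV.ι ≫ gg = (WV.ι ≫ g.left) ≫ Δ := by
          apply pullback.hom_ext
          · rw [Category.assoc, pullback.lift_fst, Category.assoc, pullback.diagonal_fst,
              Category.comp_id]
          · rw [Category.assoc, pullback.lift_snd, Category.assoc, pullback.diagonal_snd,
              Category.comp_id, hmm]
        refine ⟨(WV.ι ≫ g.left) ⟨x, hxWV⟩, ?_⟩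
        change ((WV.ι ≫ g.left) ≫ Δ) ⟨x, hxWV⟩ = gg x
        rw [← hgg]
        rfl
    exact two_sep F hF d pw hsurjW _ _ hD (hE1.trans hE2.symm)
  obtain ⟨s, hs1, hs2⟩ := two_glue F hF b i hsurj s' t c11 c12 c22
  exact ⟨s, ⟨hs2, hs1⟩, fun s₂ h => two_sep F hF b i hsurj s₂ s (h.2.trans hs1.symm)
    (h.1.trans hs2.symm)⟩

end BlowUp

end Groth.Agent.H5.Ph
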