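import Mathlib
import Groth.Prelude.Def_HTop
import Groth.Prelude.Def_HTop3
import Groth.Prelude.Def_BlowUp2
import Groth.Agent.Lib.Helper5.Ph.PhF
import Groth.Agent.Lib.Helper9.Misc.LFP1

/-!
# h sheaves and almost blow up squares (helper5)
-/

set_option autoImplicit false

universe v w u

open CategoryTheory CategoryTheory.Limits AlgebraicGeometry TopologicalSpace Opposite

namespace Groth.Agent.H5.Ph

section TwoMemberH

variable {S : Scheme.{u}} (F : (Over S)ᵒᵖ ⥤ Type v)
  {T Y₁ Y₂ : Over S} (f₁ : Y₁ ⟶ T) (f₂ : Y₂ ⟶ T)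

theorem two_sep' (hsh : Presieve.IsSheafFor F (Presieve.ofArrows (twoY Y₁ Y₂) (twoF f₁ f₂)))
    (s s' : F.obj (op T)) (h1 : F.map f₁.op s = F.map f₁.op s')
    (h2 : F.map f₂.op s = F.map f₂.op s') : s = s' := by
  refine hsh.isSeparatedFor.ext ?_
  rintro Y g ⟨k⟩
  cases k
  · exact h2
  · exact h1

theorem two_glue' (hsh : Presieve.IsSheafFor F (Presieve.ofArrows (twoY Y₁ Y₂) (twoF f₁ f₂)))
    (x₁ : F.obj (op Y₁)) (x₂ : F.obj (op Y₂))
    (c11 : ∀ (W : Over S) (g g' : W ⟶ Y₁), g ≫ f₁ = g' ≫ f₁ → F.map g.op x₁ = F.map g'.op x₁)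
    (c12 : ∀ (W : Over S) (g : W ⟶ Y₁) (g' : W ⟶ Y₂), g ≫ f₁ = g' ≫ f₂ →
      F.map g.op x₁ = F.map g'.op x₂)
    (c22 : ∀ (W : Over S) (g g' : W ⟶ Y₂), g ≫ f₂ = g' ≫ f₂ → F.map g.op x₂ = F.map g'.op x₂) :
    ∃ s : F.obj (op T), F.map f₁.op s = x₁ ∧ F.map f₂.op s = x₂ := by
  rw [Presieve.isSheafFor_arrows_iff] at hsh
  let x : ∀ k, F.obj (op (twoY Y₁ Y₂ k)) := fun k =>
    match k with
    | true => x₁
    | false => x₂
  obtain ⟨s, hs, -⟩ := hsh x (by
    rintro (_ | _) (_ | _) W g g' hgg'
    · exact c22 W g g' hgg'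
    · exact (c12 W g' g hgg'.symm).symm
    · exact c12 W g g' hgg'
    · exact c11 W g g' hgg')
  exact ⟨s, hs true, hs false⟩

theorem isSheafFor_two_h (hF : Presieve.IsSheaf (HTop.Jh S) F) [IsProper f₁.left]
    [IsProper f₂.left] [LocallyOfFinitePresentation f₁.left]
    [LocallyOfFinitePresentation f₂.left]
    (hsurj : ∀ x : T.left, x ∈ Set.range f₁.left ∨ x ∈ Set.range f₂.left) :
    Presieve.IsSheafFor F (Presieve.ofArrows (twoY Y₁ Y₂) (twoF f₁ f₂)) := by
  rw [Presieve.isSheafFor_iff_generate]
  apply hF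
  refine Groth.Agent.Lib.Helper1.HCov.generate_ofArrows_mem_over HTop.hTopology
    (twoY Y₁ Y₂) (twoF f₁ f₂) ?_
  apply Precoverage.generate_mem_toGrothendieck
  let E₀ : PreZeroHypercover.{0} T.left :=
    ⟨Bool, fun k => (twoY Y₁ Y₂ k).left, fun k => (twoF f₁ f₂ k).left⟩
  change E₀.presieve₀ ∈ HTop.hPrecoverage T.left
  rw [HTop.presieve₀_mem_hPrecoverage_iff]
  refine Groth.Agent.Lib.Helper1.HCov.isHCover_of_proper_of_surjective E₀
    (inferInstanceAs (Finite Bool)) ?_ ?_ ?_
  · rintro (_ | _)
    · change IsProper f₂.left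
      infer_instance
    · change IsProper f₁.left
      infer_instance
  · rintro (_ | _)
    · change LocallyOfFinitePresentation f₂.left
      infer_instance
    · change LocallyOfFinitePresentation f₁.left
      infer_instance
  · intro x
    rcases hsurj x with hx | hx
    · exact ⟨true, hx⟩
    · exact ⟨false, hx⟩

end TwoMemberH

section AlmostBlowUp

variable (S : Scheme.{u}) (F : (Over S)ᵒᵖ ⥤ Type v) (hF : Presieve.IsSheaf (HTop.Jh S) F)

include hF in
theorem almostBlowUpSquare_cartesian {E Z X' X : Over S} (e : E ⟶ X') (π : E ⟶ Z) (b : X' ⟶ X)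
    (i : Z ⟶ X) (h : HTop.IsAlmostBlowUpSquare e.left π.left b.left i.left)
    (t : F.obj (op Z)) (s' : F.obj (op X')) (hts : F.map π.op t = F.map e.op s') :
    ∃! s : F.obj (op X), F.map i.op s = t ∧ F.map b.op s = s' := by
  haveI := h.isClosedImmersion
  haveI := h.finitePresentation_base
  haveI := h.isProper
  haveI := h.finitePresentation
  have hE := h.isPullback
  have hbu := h.isBlowUp
  set J : X'.left.IdealSheafData := i.left.ker.comap b.left with hJ
  set βι := (HTop.supportedOn J).subschemeι with hβι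
  haveI hiso : IsIso ((βι ≫ b.left) ∣_ i.left.ker.support.compl) :=
    Groth.Agent.LD.QC.IsBlowUp.isIso_restrict_compl hbu
  have hsupp : (i.left.ker.support : Set X.left) = Set.range i.left := by
    rw [Scheme.Hom.support_ker]
    exact i.left.isClosedEmbedding.isClosed_range.closure_eq
  set V : X.left.Opens := i.left.ker.support.compl with hV
  have hmemV : ∀ x : X.left, x ∉ Set.range i.left → x ∈ V := by
    intro x hx
    change x ∉ (i.left.ker.support : Set X.left)
    rw [hsupp]
    exact hx
  -- joint surjectivity of `{b, i}`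
  have hsurj : ∀ x : X.left, x ∈ Set.range b.left ∨ x ∈ Set.range i.left := by
    intro x
    by_cases hx : x ∈ Set.range i.left
    · exact Or.inr hx
    · left
      obtain ⟨y, hy⟩ := ((βι ≫ b.left) ∣_ V).surjective ⟨x, hmemV x hx⟩
      refine ⟨βι (((βι ≫ b.left) ⁻¹ᵁ V).ι y), ?_⟩
      change (((βι ≫ b.left) ⁻¹ᵁ V).ι ≫ (βι ≫ b.left)) y = x
      rw [← morphismRestrict_ι]
      change V.ι (((βι ≫ b.left) ∣_ V) y) = x
      rw [hy]
      rfl
  have hshX := isSheafFor_two_h F b i hF hsurj
  -- compatibility for `(b, i)`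
  have c12 : ∀ (W : Over S) (g : W ⟶ X') (g' : W ⟶ Z), g ≫ b = g' ≫ i →
      F.map g.op s' = F.map g'.op t := by
    intro W g g' hgg'
    have hl : g.left ≫ b.left = g'.left ≫ i.left := congrArg CommaMorphism.left hgg'
    let ℓ : W ⟶ E := Over.homMk (hE.lift g.left g'.left hl) (by
      rw [← Over.w e, ← Category.assoc, hE.lift_fst, Over.w])
    have h1 : ℓ ≫ e = g := Over.OverMorphism.ext (hE.lift_fst _ _ _)
    have h2 : ℓ ≫ π = g' := Over.OverMorphism.ext (hE.lift_snd _ _ _)
    rw [← h1, ← h2, op_comp, op_comp, F.map_comp, F.map_comp]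
    simp only [types_comp_apply]
    rw [hts]
  -- compatibility for `(i, i)`
  have c22 : ∀ (W : Over S) (g g' : W ⟶ Z), g ≫ i = g' ≫ i → F.map g.op t = F.map g'.op t := by
    intro W g g' h
    have : g = g' := by
      apply Over.OverMorphism.ext
      have hl : g.left ≫ i.left = g'.left ≫ i.left := congrArg CommaMorphism.left h
      exact (cancel_mono i.left).1 hl
    rw [this]
  -- compatibility for `(b, b)`
  have c11 : ∀ (W : Over S) (g g' : W ⟶ X'), g ≫ b = g' ≫ b →
      F.map g.op s' = F.map g'.op s' := by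
    intro W g g' hgg'
    have hl : g.left ≫ b.left = g'.left ≫ b.left := congrArg CommaMorphism.left hgg'
    -- the part over the centre
    let pw₀ := pullback.fst (g.left ≫ b.left) i.left
    let pz₀ := pullback.snd (g.left ≫ b.left) i.left
    have hcond : pw₀ ≫ g.left ≫ b.left = pz₀ ≫ i.left := pullback.condition
    let WE : Over S := Over.mk (pw₀ ≫ W.hom)
    let pw : WE ⟶ W := Over.homMk pw₀ rfl
    let pz : WE ⟶ Z := Over.homMk pz₀ (by
      change pz₀ ≫ Z.hom = pw₀ ≫ W.hom
      rw [← Over.w i, ← Category.assoc, ← hcond, Category.assoc, Category.assoc, Over.w b,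
        Over.w g])
    have hE1 : F.map pw.op (F.map g.op s') = F.map pz.op t := by
      have := c12 WE (pw ≫ g) pz (Over.OverMorphism.ext hcond)
      rwa [op_comp, F.map_comp] at this
    have hE2 : F.map pw.op (F.map g'.op s') = F.map pz.op t := by
      have := c12 WE (pw ≫ g') pz (Over.OverMorphism.ext (by
        change pw₀ ≫ g'.left ≫ b.left = pz₀ ≫ i.left
        rw [← hl]; exact hcond))
      rwa [op_comp, F.map_comp] at this
    -- the equalizer part
    let Δ := pullback.diagonal b.left
    let gg : W.left ⟶ pullback b.left b.left := pullback.lift g.left g'.left hl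
    let d₀ := pullback.fst gg Δ
    have hd₀ : d₀ ≫ g.left = d₀ ≫ g'.left := by
      have h1 : d₀ ≫ gg = pullback.snd gg Δ ≫ Δ := pullback.condition
      have h2 := congrArg (· ≫ pullback.fst b.left b.left) h1
      have h3 := congrArg (· ≫ pullback.snd b.left b.left) h1
      simp only [Category.assoc] at h2 h3
      rw [pullback.lift_fst, pullback.diagonal_fst] at h2
      rw [pullback.lift_snd, pullback.diagonal_snd] at h3
      rw [h2, h3]
    let WD : Over S := Over.mk (d₀ ≫ W.hom)
    let d : WD ⟶ W := Over.homMk d₀ rfl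
    have hD : F.map d.op (F.map g.op s') = F.map d.op (F.map g'.op s') := by
      have : d ≫ g = d ≫ g' := Over.OverMorphism.ext hd₀
      rw [← types_comp_apply (F.map g.op) (F.map d.op), ← F.map_comp, ← op_comp, this,
        op_comp, F.map_comp]
      rfl
    haveI : LocallyOfFinitePresentation Δ := Groth.Agent.H9.LFP.lfp_diagonal b.left
    haveI : IsProper d.left := by
      change IsProper (pullback.fst gg Δ)
      infer_instance
    haveI : LocallyOfFinitePresentation d.left := by
      change LocallyOfFinitePresentation (pullback.fst gg Δ)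
      infer_instance
    haveI : IsProper pw.left := by
      change IsProper (pullback.fst (g.left ≫ b.left) i.left)
      infer_instance
    haveI : LocallyOfFinitePresentation pw.left := by
      change LocallyOfFinitePresentation (pullback.fst (g.left ≫ b.left) i.left)
      infer_instance
    -- joint surjectivity
    have hsurjW : ∀ x : W.left, x ∈ Set.range d.left ∨ x ∈ Set.range pw.left := by
      intro x
      by_cases hx : (g.left ≫ b.left) x ∈ Set.range i.left
      · right
        change x ∈ Set.range (pullback.fst (g.left ≫ b.left) i.left)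
        rw [Scheme.Pullback.range_fst]
        exact hx
      · left
        change x ∈ Set.range (pullback.fst gg Δ)
        rw [Scheme.Pullback.range_fst]
        let WV : W.left.Opens := (g.left ≫ b.left) ⁻¹ᵁ V
        have hxWV : x ∈ WV := hmemV _ hx
        let U' : X'.left.Opens := HTop.awayFrom J
        have hr : ∀ (m : (WV : Scheme.{u}) ⟶ X'.left), m ≫ b.left = WV.ι ≫ g.left ≫ b.left →
            Set.range m ⊆ Set.range U'.ι := by
          intro m hm
          rintro _ ⟨y, rfl⟩
          rw [Scheme.Opens.range_ι]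
          change m y ∉ (J.support : Set X'.left)
          rw [hJ, Scheme.IdealSheafData.support_comap]
          change ¬ (b.left (m y) ∈ (i.left.ker.support : Set X.left))
          have h1 : b.left (m y) = (m ≫ b.left) y := rfl
          rw [h1, hm]
          exact y.2
        have hm1 : (WV.ι ≫ g.left) ≫ b.left = WV.ι ≫ g.left ≫ b.left := Category.assoc _ _ _
        have hm2 : (WV.ι ≫ g'.left) ≫ b.left = WV.ι ≫ g.left ≫ b.left := by
          rw [Category.assoc, hl]
        let m₁ := IsOpenImmersion.lift U'.ι (WV.ι ≫ g.left) (hr _ hm1)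
        let m₂ := IsOpenImmersion.lift U'.ι (WV.ι ≫ g'.left) (hr _ hm2)
        have hm₁ : m₁ ≫ U'.ι = WV.ι ≫ g.left := IsOpenImmersion.lift_fac _ _ _
        have hm₂ : m₂ ≫ U'.ι = WV.ι ≫ g'.left := IsOpenImmersion.lift_fac _ _ _
        let uu : (U' : Scheme.{u}) ⟶ (HTop.supportedOn J).subscheme :=
          IsClosedImmersion.lift βι U'.ι (by
            rw [hβι, Scheme.IdealSheafData.ker_subschemeι]
            exact le_rfl)
        have huu : uu ≫ βι = U'.ι := IsClosedImmersion.lift_fac _ _ _
        have hcomp1 : (m₁ ≫ uu) ≫ (βι ≫ b.left) = WV.ι ≫ g.left ≫ b.left := by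
          rw [Category.assoc, reassoc_of% huu, reassoc_of% hm₁]
        have hcomp2 : (m₂ ≫ uu) ≫ (βι ≫ b.left) = WV.ι ≫ g.left ≫ b.left := by
          rw [Category.assoc, reassoc_of% huu, reassoc_of% hm₂, hl]
        have heq : m₁ ≫ uu = m₂ ≫ uu := by
          refine Groth.Agent.LD.QC.IsBlowUp.hom_ext hbu _ _ ?_ (hcomp1.trans hcomp2.symm)
          have hres : WV.ι ≫ g.left ≫ b.left = ((g.left ≫ b.left) ∣_ V) ≫ V.ι :=
            (morphismRestrict_ι _ _).symm
          rw [hcomp1, hres,
            Scheme.IdealSheafData.comap_comp, Groth.Agent.LD.QC.comap_compl_support_eq_top,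
            Scheme.IdealSheafData.comap_top]
          exact Groth.Agent.LD.QC.isEffCartierIdeal_top
        have hmm : WV.ι ≫ g.left = WV.ι ≫ g'.left := by
          rw [← hm₁, ← hm₂, ← huu, ← Category.assoc, ← Category.assoc, heq]
        have hgg : WV.ι ≫ gg = (WV.ι ≫ g.left) ≫ Δ := by
          apply pullback.hom_ext
          · rw [Category.assoc, pullback.lift_fst, Category.assoc, pullback.diagonal_fst,
              Category.comp_id]
          · rw [Category.assoc, pullback.lift_snd, Category.assoc, pullback.diagonal_snd,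
              Category.comp_id, hmm]
        refine ⟨(WV.ι ≫ g.left) ⟨x, hxWV⟩, ?_⟩
        change ((WV.ι ≫ g.left) ≫ Δ) ⟨x, hxWV⟩ = gg x
        rw [← hgg]
        rfl
    exact two_sep' F d pw (isSheafFor_two_h F d pw hF hsurjW) _ _ hD (hE1.trans hE2.symm)
  obtain ⟨s, hs1, hs2⟩ := two_glue' F b i hshX s' t c11 c12 c22
  exact ⟨s, ⟨hs2, hs1⟩, fun s₂ h => two_sep' F b i hshX s₂ s (h.2.trans hs1.symm)
    (h.1.trans hs2.symm)⟩

end AlmostBlowUp

end Groth.Agent.H5.Ph
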